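import Groth.Prelude.Def_Pic
import Groth.Agent.QCoh.Pullback
import Mathlib.AlgebraicGeometry.Restrict

/-!
# Isomorphism classes of modules: pullback is functorial and preserves invertibility
-/

set_option autoImplicit false
set_option backward.isDefEq.respectTransparency false
set_option backward.isDefEq.respectTransparency.types false

universe u

open CategoryTheory CategoryTheory.Limits AlgebraicGeometry

noncomputable section

namespace Groth.Agent.PicCl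

variable {X Y Z : Scheme.{u}}

theorem cl_eq_of_iso {L L' : X.Modules} (e : L ≅ L') : PicF.cl L = PicF.cl L' :=
  Quot.sound ⟨e⟩

theorem nonempty_iso_of_cl_eq {L L' : X.Modules} (h : PicF.cl L = PicF.cl L') : Nonempty (L ≅ L') :=
  (Equivalence.eqvGen_iff (r := fun A B : X.Modules => Nonempty (A ≅ B))
    ⟨fun _ => ⟨Iso.refl _⟩, fun ⟨e⟩ => ⟨e.symm⟩, fun ⟨e⟩ ⟨e'⟩ => ⟨e ≪≫ e'⟩⟩).1 (Quot.eqvGen_exact h)

theorem exists_cl (c : PicF.Cl X) : ∃ L, PicF.cl L = c := Quot.exists_rep c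

@[simp] theorem pullCl_cl (g : X ⟶ Y) (L : Y.Modules) :
    PicF.pullCl g (PicF.cl L) = PicF.cl ((Scheme.Modules.pullback g).obj L) := rfl

theorem pullCl_id (c : PicF.Cl X) : PicF.pullCl (𝟙 X) c = c := by
  obtain ⟨L, rfl⟩ := exists_cl c
  exact cl_eq_of_iso ((Scheme.Modules.pullbackId X).app L)

theorem pullCl_comp (g : X ⟶ Y) (h : Y ⟶ Z) (c : PicF.Cl Z) :
    PicF.pullCl (g ≫ h) c = PicF.pullCl g (PicF.pullCl h c) := by
  obtain ⟨L, rfl⟩ := exists_cl c
  exact cl_eq_of_iso ((Scheme.Modules.pullbackComp g h).app L).symm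

/-- On `g⁻¹U` the pullback of `L` is the pullback of `L|_U`. -/
def restrictPullbackIso (g : X ⟶ Y) (U : Y.Opens) (L : Y.Modules) :
    ((Scheme.Modules.pullback g).obj L).restrict (g ⁻¹ᵁ U).ι ≅
      (Scheme.Modules.pullback (g ∣_ U)).obj (L.restrict U.ι) :=
  (Scheme.Modules.restrictFunctorIsoPullback (g ⁻¹ᵁ U).ι).app _ ≪≫
    (Scheme.Modules.pullbackComp (g ⁻¹ᵁ U).ι g).app L ≪≫
    (Scheme.Modules.pullbackCongr (morphismRestrict_ι g U).symm).app L ≪≫
    ((Scheme.Modules.pullbackComp (g ∣_ U) U.ι).app L).symm ≪≫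
    (Scheme.Modules.pullback (g ∣_ U)).mapIso
      ((Scheme.Modules.restrictFunctorIsoPullback U.ι).app L).symm

theorem isInvertible_of_iso {L L' : X.Modules} (e : L ≅ L') (h : PicF.IsInvertible L) :
    PicF.IsInvertible L' := fun x =>
  let ⟨U, hx, ⟨i⟩⟩ := h x
  ⟨U, hx, ⟨((Scheme.Modules.restrictFunctor U.ι).mapIso e).symm ≪≫ i⟩⟩

theorem isInvertible_pullback (g : X ⟶ Y) {L : Y.Modules} (h : PicF.IsInvertible L) :
    PicF.IsInvertible ((Scheme.Modules.pullback g).obj L) := fun x =>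
  let ⟨U, hx, ⟨i⟩⟩ := h (g x)
  ⟨g ⁻¹ᵁ U, hx, ⟨restrictPullbackIso g U L ≪≫ (Scheme.Modules.pullback (g ∣_ U)).mapIso i ≪≫
    QCoh.pullbackUnitIso (g ∣_ U)⟩⟩

theorem isInvertibleCl_pullCl (g : X ⟶ Y) {c : PicF.Cl Y} (h : PicF.IsInvertibleCl c) :
    PicF.IsInvertibleCl (PicF.pullCl g c) := by
  obtain ⟨L, rfl, hL⟩ := h
  exact ⟨_, rfl, isInvertible_pullback g hL⟩

section XT

variable {S : Scheme.{u}} (f : X ⟶ S)

@[reassoc]
theorem XTmap_fst {T T' : Over S} (g : T' ⟶ T) :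
    PicF.XTmap f g ≫ pullback.fst _ _ = pullback.fst _ _ := by
  simp [PicF.XTmap]

@[reassoc]
theorem XTmap_snd {T T' : Over S} (g : T' ⟶ T) :
    PicF.XTmap f g ≫ pullback.snd _ _ = pullback.snd _ _ ≫ g.left := by
  simp [PicF.XTmap]

@[reassoc]
theorem XTmap_comp {T T' T'' : Over S} (g : T'' ⟶ T') (h : T' ⟶ T) :
    PicF.XTmap f (g ≫ h) = PicF.XTmap f g ≫ PicF.XTmap f h := by
  apply pullback.hom_ext <;> simp [PicF.XTmap]

theorem XTmap_id (T : Over S) : PicF.XTmap f (𝟙 T) = 𝟙 _ := by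
  apply pullback.hom_ext <;> simp [PicF.XTmap]

end XT

end Groth.Agent.PicCl
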